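import Cfsg.Agent.Components.FStar
import Cfsg.Agent.Components.PComponents
import Cfsg.Agent.Coprime.PTimesQ
import Cfsg.Agent.Solvable.Fitting
import Cfsg.Agent.Transfer.Residual
import Cfsg.Prelude.Def_KGroupFacts

/-!
# Balance in a finite group with trivial `p'`-core

Throughout, `X` is finite with `O_{p'}(X) = 1`, `R` is a `p`-subgroup and `Y` a subgroup with
`C(R) ≤ Y ≤ N(R)`; `coreIn p Y` is `O_{p'}(Y)` inside `X`, assumed to centralise `R` (automatic
when `R ≤ Y`).

* `coreIn_le_centralizer_pCore`, `coreIn_le_normalizer_component`: `O_{p'}(Y)` centralises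
  `O_p(X)` and normalises every component.
* `exists_conj_eq_of_commutator_mem`: the orbit lemma.
* `le_layer_of_commutator_le`: `L_{p'}`-balance, for components with solvable outer
  automorphism group.
-/

set_option autoImplicit false

namespace CfsgLib.Balance

open Subgroup
open scoped commutatorElement
open CfsgLib.Components (IsComponent.commutator_eq_self IsComponent.ne_bot IsComponent.conj
  IsComponent.le_layer IsComponent.normalized_by_layer IsComponent.not_commute)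

variable {X : Type*} [Group X] {p : ℕ}

/-- `O_{p'}(Y)` as a subgroup of the ambient group. -/
def coreIn (p : ℕ) (Y : Subgroup X) : Subgroup X :=
  (Cfsg.pPrimeCore p Y).map Y.subtype

theorem coreIn_le (Y : Subgroup X) : coreIn p Y ≤ Y := map_subtype_le _

theorem coreIn_conj_mem {Y : Subgroup X} {y x : X} (hy : y ∈ Y) (hx : x ∈ coreIn p Y) :
    y * x * y⁻¹ ∈ coreIn p Y := by
  obtain ⟨x, hx, rfl⟩ := hx
  exact ⟨⟨y, hy⟩ * x * ⟨y, hy⟩⁻¹, Normal.conj_mem inferInstance x hx _, rfl⟩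

theorem le_normalizer_coreIn (Y : Subgroup X) : Y ≤ normalizer (coreIn p Y : Set X) := by
  intro y hy
  rw [mem_normalizer_iff]
  refine fun x => ⟨coreIn_conj_mem hy, fun h => ?_⟩
  simpa [mul_assoc] using coreIn_conj_mem (inv_mem hy) h

theorem eq_bot_of_perfect {H : Subgroup X} (hp : ⁅H, H⁆ = H) (hs : Group.IsSolvable H) : H = ⊥ := by
  by_contra hne
  have := (nontrivial_iff_ne_bot H).mpr hne
  have hlt := Group.IsSolvable.commutator_lt_top_of_nontrivial (G := H)
  apply hlt.ne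
  rw [← map_subtype_inj, commutator_def, map_commutator, ← MonoidHom.range_eq_map, range_subtype, hp]

theorem hom_eq_one_of_perfect {H : Type*} [Group H] (f : X →* H) (hH : Group.IsSolvable H)
    (hp : ⁅(⊤ : Subgroup X), (⊤ : Subgroup X)⁆ = ⊤) (x : X) : f x = 1 := by
  have : f.range = ⊥ := by
    refine eq_bot_of_perfect ?_ inferInstance
    rw [MonoidHom.range_eq_map, ← map_commutator, hp]
  exact mem_bot.mp (this ▸ ⟨x, rfl⟩)

variable [Finite X] [Fact p.Prime]

theorem coprime_coreIn (Y : Subgroup X) : (Nat.card (coreIn p Y)).Coprime p :=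
  (CfsgLib.PLocal.coprime_card_pPrimeCore p Y).coprime_dvd_left (card_map_dvd _ _)

theorem eq_one_of_mem_coreIn {Y : Subgroup X} {x : X} (hx : x ∈ coreIn p Y) {k : ℕ}
    (hk : x ^ p ^ k = 1) : x = 1 :=
  orderOf_eq_one_iff.mp (Nat.eq_one_of_dvd_coprimes ((coprime_coreIn Y).pow_right k)
    ((coreIn p Y).orderOf_dvd_natCard hx) (orderOf_dvd_of_pow_eq_one hk))

theorem isPGroup_zpowers {x : X} {P : Subgroup X} (hP : IsPGroup p P) (hx : x ∈ P) :
    IsPGroup p (zpowers x) :=
  hP.to_le (zpowers_le.mpr hx)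

/-- A perfect subgroup is generated by its elements of order prime to `p`. -/
theorem perfect_le_closure_coprime {K : Subgroup X} (hK : ⁅K, K⁆ = K) :
    K ≤ closure {x | x ∈ K ∧ (orderOf x).Coprime p} := by
  intro x hx
  have hperf : ⁅(⊤ : Subgroup K), (⊤ : Subgroup K)⁆ = ⊤ := by
    rw [← map_subtype_inj, map_commutator, ← MonoidHom.range_eq_map, range_subtype, hK]
  have : (Cfsg.pResidual p K).Normal := inferInstance
  have := (CfsgLib.Transfer.isPGroup_quotient_pResidual (p := p) (G := K)).isNilpotent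
  have h1 := hom_eq_one_of_perfect (QuotientGroup.mk' (Cfsg.pResidual p K)) inferInstance hperf ⟨x, hx⟩
  have h2' : (⟨x, hx⟩ : K) ∈ Cfsg.pResidual p K := (QuotientGroup.eq_one_iff _).mp h1
  have h2 : (⟨x, hx⟩ : K) ∈ closure {g : K | Nat.Coprime (orderOf g) p} := h2'
  have h3 := mem_map_of_mem K.subtype h2
  rw [MonoidHom.map_closure] at h3
  refine closure_mono ?_ h3
  rintro _ ⟨g, hg, rfl⟩
  exact ⟨g.2, by rw [coe_subtype, Subgroup.orderOf_coe]; exact hg⟩

section Reduced

variable (hX : Cfsg.pPrimeCore p X = ⊥)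
include hX

theorem fittingSubgroup_eq_pCore : Cfsg.fittingSubgroup X = Cfsg.pCore p X := by
  refine le_antisymm ?_ (CfsgLib.Solvable.pCore_le_fittingSubgroup p)
  rw [CfsgLib.Solvable.fittingSubgroup_eq_iSup]
  refine iSup_le fun q => ?_
  by_cases hq : (q : ℕ) = p
  · rw [hq]
  · have := Fact.mk q.2
    refine le_of_eq_of_le (?_ : Cfsg.pCore (q : ℕ) X = ⊥) bot_le
    rw [eq_bot_iff, ← hX]
    obtain ⟨n, hn⟩ := IsPGroup.iff_card.mp (CfsgLib.PLocal.isPGroup_pCore (q : ℕ) X)
    have := CfsgLib.Solvable.pCore_normal (G := X) (q : ℕ)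
    refine CfsgLib.PLocal.le_pPrimeCore ?_
    rw [hn]
    exact ((Nat.coprime_primes q.2 Fact.out).mpr hq).pow_left n

theorem dvd_card_component {K : Subgroup X} (hK : Cfsg.IsComponent K) : p ∣ Nat.card K := by
  by_contra h
  apply IsComponent.ne_bot hK
  rw [eq_bot_iff, ← hX]
  exact CfsgLib.PLocal.le_pPrimeCore_of_isSubnormal hK.1 (CfsgLib.PLocal.not_dvd_iff_coprime.mpr h)

theorem component_inf_centralizer_le_pCore {K : Subgroup X} (hK : Cfsg.IsComponent K) :
    K ⊓ centralizer (K : Set X) ≤ Cfsg.pCore p X := by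
  intro z hz
  have hsn : ∀ w ∈ K ⊓ centralizer (K : Set X), (zpowers w).IsSubnormal := by
    intro w hw
    refine IsSubnormal.step _ K (zpowers_le.mpr hw.1) hK.1 (normal_subgroupOf_of_le_normalizer ?_)
    intro k hk
    refine centralizer_le_normalizer _ ?_
    rintro _ ⟨j, rfl⟩
    exact ((show Commute k w from hw.2 k hk).zpow_right j).eq.symm
  obtain ⟨a, m, hm, hzm⟩ :=
    Nat.exists_eq_pow_mul_and_not_dvd (orderOf_pos z).ne' p (Fact.out : p.Prime).ne_one
  have h1 : z ^ p ^ a = 1 := by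
    have := CfsgLib.PLocal.le_pPrimeCore_of_isSubnormal (hsn _ (pow_mem hz (p ^ a))) (p := p) (by
      rw [Nat.card_zpowers, orderOf_pow, hzm,
        Nat.gcd_eq_right (Dvd.intro m rfl), Nat.mul_div_cancel_left _ (pow_pos (Fact.out : p.Prime).pos a)]
      exact CfsgLib.PLocal.not_dvd_iff_coprime.mpr hm)
    rw [hX] at this
    exact mem_bot.mp (this (mem_zpowers _))
  refine CfsgLib.PLocal.le_pCore_of_isSubnormal (hsn z hz) ?_ (mem_zpowers z)
  rintro ⟨_, j, rfl⟩
  refine ⟨a, Subtype.ext ?_⟩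
  simp only [SubmonoidClass.coe_pow, OneMemClass.coe_one]
  rw [← zpow_natCast, ← zpow_mul, mul_comm, zpow_mul, zpow_natCast, h1, one_zpow]

end Reduced

/-- The elements of the layer centralised by `R` modulo `O_p(X)`. -/
def layerFix (p : ℕ) (R : Subgroup X) : Set X :=
  {z | z ∈ Cfsg.layer X ∧ ∀ r ∈ R, r * z * r⁻¹ * z⁻¹ ∈ Cfsg.pCore p X}

theorem exists_not_mem_fixed {R : Subgroup X} (hR : IsPGroup p R) :
    ∀ (n : ℕ) (P : Subgroup X), Nat.card P = n → IsPGroup p P →
      R ≤ normalizer (P : Set X) → ¬ P ≤ Cfsg.pCore p X →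
      ∃ z ∈ P, z ∉ Cfsg.pCore p X ∧ ∀ r ∈ R, r * z * r⁻¹ * z⁻¹ ∈ Cfsg.pCore p X := by
  intro n
  induction n using Nat.strong_induction_on with
  | _ n ih =>
  intro P hn hP hRP hPU
  by_cases h : ⁅P, R⁆ ≤ Cfsg.pCore p X
  · obtain ⟨z, hz, hzU⟩ := SetLike.not_le_iff_exists.mp hPU
    refine ⟨z, hz, hzU, fun r hr => ?_⟩
    rw [← commutatorElement_def]
    rw [commutator_comm] at h
    exact h (commutator_mem_commutator hr hz)
  · have hlt := CfsgLib.Coprime.commutator_lt_of_isPGroup hP hR hRP fun h' => hPU (h' ▸ bot_le)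
    have hlt' : Nat.card (⁅P, R⁆ : Subgroup X) < n := by
      rw [← hn]
      by_contra hge
      push Not at hge
      exact hlt.ne (eq_of_le_of_card_ge hlt.le hge)
    obtain ⟨z, hz, h1, h2⟩ := ih _ hlt' _ rfl (hP.to_le hlt.le)
      (normalizer_commutator_ge_right P R) h
    exact ⟨z, hlt.le hz, h1, h2⟩

/-! ### The orbit lemma -/

theorem exists_conj_eq_of_commutator_mem (hX : Cfsg.pPrimeCore p X = ⊥) {R Y : Subgroup X}
    (hR : IsPGroup p R) {d : X} (hd : d ∈ centralizer (R : Set X))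
    (hT : ∀ z ∈ layerFix p R, d * z * d⁻¹ * z⁻¹ ∈ coreIn p Y)
    {K : Subgroup X} (hK : Cfsg.IsComponent K) :
    ∃ r ∈ R, K.map (MulAut.conj d).toMonoidHom = K.map (MulAut.conj r).toMonoidHom := by
  by_contra hcon
  push Not at hcon
  let S : Set (Subgroup X) := {L | ∃ r ∈ R, L = K.map (MulAut.conj r).toMonoidHom}
  have hS : ∀ L ∈ S, Cfsg.IsComponent L := by
    rintro L ⟨r, -, rfl⟩; exact IsComponent.conj hK r
  have hmm : ∀ (a b : X) (L : Subgroup X), (L.map (MulAut.conj b).toMonoidHom).map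
      (MulAut.conj a).toMonoidHom = L.map (MulAut.conj (a * b)).toMonoidHom := fun a b L => by
    rw [map_map]; congr 1; ext x; simp [mul_assoc]
  set W := sSup S with hW
  have hKW : K ≤ W := le_sSup ⟨1, one_mem _, by
    ext x; simp⟩
  have hRW : R ≤ normalizer (W : Set X) := by
    intro r hr
    have key : ∀ a ∈ R, W.map (MulAut.conj a).toMonoidHom ≤ W := by
      intro a ha
      rw [map_le_iff_le_comap]
      refine sSup_le ?_
      rintro L ⟨b, hb, rfl⟩
      rw [← map_le_iff_le_comap, hmm]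
      exact le_sSup ⟨a * b, mul_mem ha hb, rfl⟩
    refine mem_normalizer_iff_map_conj_eq.mpr (le_antisymm (key r hr) ?_)
    intro x hx
    refine ⟨r⁻¹ * x * r, key r⁻¹ (inv_mem hr) ⟨x, hx, by simp⟩, by simp [mul_assoc]⟩
  have hZ : W ⊓ centralizer (W : Set X) ≤ Cfsg.pCore p X := by
    rw [hW, CfsgLib.Components.sSup_inf_centralizer (Set.toFinite S) hS]
    exact iSup₂_le fun L hL => component_inf_centralizer_le_pCore hX (hS L hL)
  -- an `R`-invariant `p`-subgroup of `W` not inside `O_p(X)`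
  have hex : ∃ P : Subgroup X, P ≤ W ∧ IsPGroup p P ∧ R ≤ normalizer (P : Set X) ∧
      ¬ P ≤ Cfsg.pCore p X := by
    set H := W ⊔ R
    have hR' : IsPGroup p (R.subgroupOf H) := hR.comap_subtype
    obtain ⟨SH, hSH⟩ := hR'.exists_le_sylow
    refine ⟨W ⊓ (SH : Subgroup H).map H.subtype, inf_le_left,
      (SH.isPGroup'.map H.subtype).to_le inf_le_right, ?_, ?_⟩
    · refine le_trans (le_inf hRW ?_) inf_normalizer_le_normalizer_inf
      intro r hr
      exact le_normalizer ⟨⟨r, (le_sup_right : R ≤ H) hr⟩, hSH hr, rfl⟩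
    · intro hle
      have hKU : K ≤ Cfsg.pCore p X := by
        rw [← CfsgLib.Components.pElems_eq_self_of_isQuasisimple hK.2 (dvd_card_component hX hK)]
        refine (closure_le _).mpr ?_
        rintro x ⟨hx, k, hk⟩
        have hxH : x ∈ H := (le_sup_left : W ≤ H) (hKW hx)
        have hxp : IsPGroup p (zpowers (⟨x, hxH⟩ : H)) := by
          rintro ⟨_, j, rfl⟩
          refine ⟨k, Subtype.ext ?_⟩
          simp only [SubmonoidClass.coe_pow, OneMemClass.coe_one]
          rw [← zpow_natCast, ← zpow_mul, mul_comm, zpow_mul, zpow_natCast,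
            show (⟨x, hxH⟩ : H) ^ p ^ k = 1 from Subtype.ext hk, one_zpow]
        obtain ⟨S', hS'⟩ := hxp.exists_le_sylow
        obtain ⟨h, hh⟩ := MulAction.exists_smul_eq H S' SH
        have h1 : h * ⟨x, hxH⟩ * h⁻¹ ∈ SH := by
          rw [← hh, Sylow.smul_def]
          exact smul_mem_pointwise_smul _ (MulAut.conj h) _ (hS' (mem_zpowers _))
        have hnW : H ≤ normalizer (W : Set X) := sup_le le_normalizer hRW
        have h2 : (h : X) * x * (h : X)⁻¹ ∈ W :=
          (mem_normalizer_iff.mp (hnW h.2) x).mp (hKW hx)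
        have h3 := hle ⟨h2, ⟨_, h1, rfl⟩⟩
        have := (CfsgLib.Solvable.pCore_normal (G := X) p).conj_mem _ h3 ((h : X)⁻¹)
        simpa [mul_assoc] using this
      apply IsComponent.not_commute hK
      have hs : Group.IsSolvable K :=
        have := (CfsgLib.PLocal.isPGroup_pCore p X).to_le hKU |>.isNilpotent
        inferInstance
      exact absurd (eq_bot_of_perfect (IsComponent.commutator_eq_self hK) hs) (IsComponent.ne_bot hK)
  obtain ⟨P, hPW, hP, hRP, hPU⟩ := hex
  obtain ⟨z, hzP, hzU, hz⟩ := exists_not_mem_fixed hR _ P rfl hP hRP hPU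
  have hWL : W ≤ Cfsg.layer X := sSup_le fun L hL => IsComponent.le_layer (hS L hL)
  have hzT : z ∈ layerFix p R := ⟨hWL (hPW hzP), hz⟩
  -- the conjugate of `W` commutes with `W`
  have hcomm : ∀ w ∈ W, Commute (d * z * d⁻¹) w := by
    intro w hw
    have hle : W.map (MulAut.conj d).toMonoidHom ≤ centralizer (W : Set X) := by
      rw [map_le_iff_le_comap]
      refine sSup_le ?_
      rintro L ⟨r, hr, rfl⟩
      rw [← map_le_iff_le_comap, hmm, le_centralizer_iff]
      refine CfsgLib.Components.sSup_le_centralizer_of_notMem hS (IsComponent.conj hK _) ?_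
      rintro ⟨r', hr', he⟩
      apply hcon (r⁻¹ * r') (mul_mem (inv_mem hr) hr')
      have := congrArg (fun L : Subgroup X => L.map (MulAut.conj r⁻¹).toMonoidHom) he
      simp only [hmm] at this
      rwa [show r⁻¹ * (d * r) = d by rw [← mem_centralizer_iff.mp hd r hr, inv_mul_cancel_left]] at this
    exact (hle ⟨z, hPW hzP, rfl⟩ w hw).symm
  obtain ⟨k, hk⟩ := hP ⟨z, hzP⟩
  have hk' : z ^ p ^ k = 1 := congrArg Subtype.val hk
  have hw : d * z * d⁻¹ * z⁻¹ = 1 := by
    apply eq_one_of_mem_coreIn (hT z hzT) (k := k)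
    rw [(hcomm z⁻¹ (inv_mem (hPW hzP))).mul_pow, conj_pow, hk', inv_pow, hk']
    group
  rw [mul_inv_eq_one] at hw
  apply hzU
  refine hZ ⟨hPW hzP, fun w hwW => ?_⟩
  have := hcomm w hwW
  rw [hw] at this
  exact this.eq.symm

theorem le_normalizer_component (hX : Cfsg.pPrimeCore p X = ⊥) {R Y D : Subgroup X}
    (hR : IsPGroup p R) (hD : D ≤ centralizer (R : Set X))
    (hgen : D ≤ closure {x | x ∈ D ∧ (orderOf x).Coprime p})
    (hT : ∀ d ∈ D, ∀ z ∈ layerFix p R, d * z * d⁻¹ * z⁻¹ ∈ coreIn p Y)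
    {K : Subgroup X} (hK : Cfsg.IsComponent K) : D ≤ normalizer (K : Set X) := by
  refine hgen.trans ((closure_le _).mpr ?_)
  rintro d ⟨hd, hcop⟩
  obtain ⟨r, hr, he⟩ := exists_conj_eq_of_commutator_mem hX hR (hD hd) (hT d hd) hK
  have hmm : ∀ (a b : X) (L : Subgroup X), (L.map (MulAut.conj b).toMonoidHom).map
      (MulAut.conj a).toMonoidHom = L.map (MulAut.conj (a * b)).toMonoidHom := fun a b L => by
    rw [map_map]; congr 1; ext x; simp [mul_assoc]
  have hpow : ∀ j : ℕ, K.map (MulAut.conj (d ^ j)).toMonoidHom =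
      K.map (MulAut.conj (r ^ j)).toMonoidHom := by
    intro j
    induction j with
    | zero => simp
    | succ j ih =>
      have hc : Commute (r ^ j) d := (show Commute r d from mem_centralizer_iff.mp (hD hd) r hr).pow_left j
      rw [pow_succ', ← hmm, ih, hmm, hc.eq.symm, ← hmm, he, hmm, ← pow_succ]
  obtain ⟨e, he'⟩ := hR ⟨r, hr⟩
  have hre : r ^ p ^ e = 1 := congrArg Subtype.val he'
  have hfix : d ^ p ^ e ∈ normalizer (K : Set X) := by
    refine mem_normalizer_iff_map_conj_eq.mpr ?_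
    show K.map (MulAut.conj (d ^ p ^ e)).toMonoidHom = K
    rw [hpow, hre]
    ext x; simp
  obtain ⟨j, hj⟩ := exists_pow_eq_self_of_coprime (hcop.pow_right e).symm
  rw [SetLike.mem_coe, ← hj]
  exact pow_mem hfix j

/-! ### `O_{p'}(Y)` -/

variable {R Y : Subgroup X}

theorem coreIn_le_centralizer_pCore (hR : IsPGroup p R) (hCY : centralizer (R : Set X) ≤ Y)
    (hO : coreIn p Y ≤ centralizer (R : Set X)) :
    coreIn p Y ≤ centralizer (Cfsg.pCore p X : Set X) := by
  have hn := CfsgLib.Solvable.pCore_normal (G := X) p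
  refine CfsgLib.Coprime.le_centralizer_of_inf_centralizer_le (P := R) hR (coprime_coreIn Y)
    (CfsgLib.PLocal.isPGroup_pCore p X) (le_centralizer_iff.mp hO)
    le_normalizer_of_normal le_normalizer_of_normal ?_
  intro u hu o ho
  obtain ⟨k, hk⟩ := CfsgLib.PLocal.isPGroup_pCore p X ⟨u, hu.1⟩
  have huY := hCY hu.2
  have h1 : o * u * o⁻¹ * u⁻¹ ∈ coreIn p Y := by
    have := mul_mem ho (coreIn_conj_mem huY (inv_mem ho))
    simpa [mul_assoc] using this
  have h2 : o * u * o⁻¹ * u⁻¹ ∈ Cfsg.pCore p X :=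
    mul_mem (hn.conj_mem u hu.1 o) (inv_mem hu.1)
  obtain ⟨j, hj⟩ := CfsgLib.PLocal.isPGroup_pCore p X ⟨_, h2⟩
  have := eq_one_of_mem_coreIn h1 (k := j) (congrArg Subtype.val hj)
  rw [mul_inv_eq_one, mul_inv_eq_iff_eq_mul] at this
  exact this

omit [Finite X] [Fact p.Prime] in
theorem inv_mem_layerFix {z : X} (hz : z ∈ layerFix p R) : z⁻¹ ∈ layerFix p R := by
  refine ⟨inv_mem hz.1, fun r hr => ?_⟩
  have hn : (Cfsg.pCore p X).Normal := CfsgLib.Solvable.pCore_normal (G := X) p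
  have := hn.conj_mem _ (inv_mem (hz.2 r hr)) z⁻¹
  simpa [mul_assoc] using this

omit [Finite X] [Fact p.Prime] in
/-- `layerFix` normalises `C(R) ∩ C(O_p(X))`. -/
theorem layerFix_conj_mem {z : X} (hz : z ∈ layerFix p R) {x : X}
    (hx : x ∈ centralizer (R : Set X) ⊓ centralizer (Cfsg.pCore p X : Set X)) :
    z * x * z⁻¹ ∈ centralizer (R : Set X) ⊓ centralizer (Cfsg.pCore p X : Set X) := by
  have hn : (Cfsg.pCore p X).Normal := CfsgLib.Solvable.pCore_normal (G := X) p
  have hU : z * x * z⁻¹ ∈ centralizer (Cfsg.pCore p X : Set X) :=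
    (inferInstance : (centralizer (Cfsg.pCore p X : Set X)).Normal).conj_mem x hx.2 z
  refine ⟨fun r hr => ?_, hU⟩
  set c := r * z * r⁻¹ * z⁻¹ with hc
  have h1 : r * (z * x * z⁻¹) * r⁻¹ = c * (z * (r * x * r⁻¹) * z⁻¹) * c⁻¹ := by
    rw [hc]; group
  have h2 : r * x * r⁻¹ = x := by rw [hx.1 r hr, mul_inv_cancel_right]
  have h3 : c * (z * x * z⁻¹) = z * x * z⁻¹ * c := hU c (hz.2 r hr)
  rw [h2, h3, mul_inv_cancel_right] at h1
  exact mul_inv_eq_iff_eq_mul.mp h1

theorem layerFix_conj_coreIn (hR : IsPGroup p R) (hCY : centralizer (R : Set X) ≤ Y)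
    (hYN : Y ≤ normalizer (R : Set X)) (hO : coreIn p Y ≤ centralizer (R : Set X)) {z : X}
    (hz : z ∈ layerFix p R) {x : X} (hx : x ∈ coreIn p Y) : z * x * z⁻¹ ∈ coreIn p Y := by
  set C0 := centralizer (R : Set X) ⊓ centralizer (Cfsg.pCore p X : Set X) with hC0
  have hOC : coreIn p Y ≤ C0 := le_inf hO (coreIn_le_centralizer_pCore hR hCY hO)
  set O' := (coreIn p Y).map (MulAut.conj z).toMonoidHom
  have hO'C : O' ≤ C0 := by
    rintro _ ⟨w, hw, rfl⟩; exact layerFix_conj_mem hz (hOC hw)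
  have hC0Y : C0 ≤ Y := inf_le_left.trans hCY
  have hC0n : (C0.subgroupOf Y).Normal := by
    refine ⟨fun a ha y => ⟨fun r hr => ?_, ?_⟩⟩
    · have hr' : (y : X)⁻¹ * r * y ∈ R := (mem_normalizer_iff''.mp (hYN y.2) r).mp hr
      have h := ha.1 _ hr'
      have h' : (y : X)⁻¹ * r * y * (a : X) = (a : X) * ((y : X)⁻¹ * r * y) := h
      show r * ((y : X) * (a : X) * (y : X)⁻¹) = (y : X) * (a : X) * (y : X)⁻¹ * r
      calc r * ((y : X) * (a : X) * (y : X)⁻¹)
          = (y : X) * ((y : X)⁻¹ * r * y * (a : X)) * (y : X)⁻¹ := by group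
        _ = (y : X) * ((a : X) * ((y : X)⁻¹ * r * y)) * (y : X)⁻¹ := by rw [h']
        _ = _ := by group
    · have := CfsgLib.Solvable.pCore_normal (G := X) p
      exact (inferInstance : (centralizer (Cfsg.pCore p X : Set X)).Normal).conj_mem _ ha.2 y
  have hnorm : C0 ≤ normalizer (O' : Set X) := by
    intro c hc
    have hc' : z⁻¹ * c * z ∈ C0 := by
      have := layerFix_conj_mem (inv_mem_layerFix hz) hc
      rwa [inv_inv] at this
    have key : ∀ a ∈ Y, ∀ w ∈ O', (z * a * z⁻¹) * w * (z * a * z⁻¹)⁻¹ ∈ O' := by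
      rintro a ha _ ⟨w, hw, rfl⟩
      exact ⟨a * w * a⁻¹, coreIn_conj_mem ha hw, by simp [mul_assoc]⟩
    rw [mem_normalizer_iff]
    intro w
    have e : z * (z⁻¹ * c * z) * z⁻¹ = c := by group
    constructor
    · intro hw; simpa [e] using key _ (hC0Y hc') w hw
    · intro hw
      have := key _ (inv_mem (hC0Y hc')) _ hw
      simpa [mul_assoc] using this
  have hle : O'.subgroupOf Y ≤ Cfsg.pPrimeCore p Y := by
    refine CfsgLib.PLocal.le_pPrimeCore_of_le_isSubnormal hC0n.isSubnormal _ (comap_mono hO'C) ?_ ?_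
    · intro a ha
      rw [mem_normalizer_iff]
      exact fun w => mem_normalizer_iff.mp (hnorm ha) w
    · refine (coprime_coreIn (p := p) Y).coprime_dvd_left ?_
      exact (card_comap_dvd_of_injective O' Y.subtype Y.subtype_injective).trans (card_map_dvd _ _)
  have hmem : z * x * z⁻¹ ∈ O' := ⟨x, hx, rfl⟩
  exact ⟨⟨_, hC0Y (hO'C hmem)⟩, hle hmem, rfl⟩

/-- `O_{p'}(Y)` normalises every component of `X`. -/
theorem coreIn_le_normalizer_component (hX : Cfsg.pPrimeCore p X = ⊥) (hR : IsPGroup p R)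
    (hCY : centralizer (R : Set X) ≤ Y) (hYN : Y ≤ normalizer (R : Set X))
    (hO : coreIn p Y ≤ centralizer (R : Set X)) {K : Subgroup X} (hK : Cfsg.IsComponent K) :
    coreIn p Y ≤ normalizer (K : Set X) := by
  refine le_normalizer_component hX (Y := Y) hR hO (fun x hx => subset_closure ⟨hx, ?_⟩) ?_ hK
  · exact (coprime_coreIn Y).coprime_dvd_left ((coreIn p Y).orderOf_dvd_natCard hx)
  · intro d hd z hz
    rw [show d * z * d⁻¹ * z⁻¹ = d * (z * d⁻¹ * z⁻¹) by group]
    exact mul_mem hd (layerFix_conj_coreIn hR hCY hYN hO hz (inv_mem hd))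

/-! ### `L_{p'}`-balance -/

/-- Modulo the centre, an element normalising a component with solvable outer group acts as an
inner automorphism when it lies in a perfect group of such elements. -/
theorem exists_mul_inv_mem_centralizer {K L : Subgroup X} (hK : ⁅K, K⁆ = K)
    (hKL : K ≤ normalizer (L : Set X)) (hLp : ⁅L, L⁆ = L)
    (hS : Group.IsSolvable (Cfsg.Out (↥L ⧸ center ↥L))) {k : X} (hk : k ∈ K) :
    ∃ l ∈ L, l⁻¹ * k ∈ centralizer (L : Set X) := by
  let ρ : MulAut L →* MulAut (↥L ⧸ center ↥L) :=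
    { toFun := fun φ => QuotientGroup.congr (center ↥L) (center ↥L) φ
        (characteristic_iff_map_eq.mp inferInstance φ)
      map_one' := by
        ext x; obtain ⟨x, rfl⟩ := QuotientGroup.mk'_surjective _ x; rfl
      map_mul' := fun a b => by
        ext x; obtain ⟨x, rfl⟩ := QuotientGroup.mk'_surjective _ x; rfl }
  let c : K →* MulAut L := L.normalizerMonoidHom.comp (inclusion hKL)
  have hperf : ⁅(⊤ : Subgroup K), (⊤ : Subgroup K)⁆ = ⊤ := by
    rw [← map_subtype_inj, map_commutator, ← MonoidHom.range_eq_map, range_subtype, hK]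
  have h1 := hom_eq_one_of_perfect ((QuotientGroup.mk' (Cfsg.Inn (↥L ⧸ center ↥L))).comp (ρ.comp c))
    hS hperf ⟨k, hk⟩
  obtain ⟨lb, hlb⟩ : (ρ.comp c) ⟨k, hk⟩ ∈ Cfsg.Inn (↥L ⧸ center ↥L) := (QuotientGroup.eq_one_iff _).mp h1
  obtain ⟨l, rfl⟩ := QuotientGroup.mk'_surjective _ lb
  refine ⟨l, l.2, ?_⟩
  set a := (l : X)⁻¹ * k with ha
  have hmod : ∀ x : L, ∃ e : X, e ∈ centralizer (L : Set X) ∧ a * x * a⁻¹ = e * x := by
    intro x
    have h := DFunLike.congr_fun hlb (QuotientGroup.mk x)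
    have hkx : k * x * k⁻¹ ∈ L := (mem_normalizer_iff.mp (hKL hk) x).mp x.2
    have h' : ((l * x * l⁻¹ : L) : ↥L ⧸ center ↥L) = ((⟨k * x * k⁻¹, hkx⟩ : L) : ↥L ⧸ center ↥L) := h
    rw [QuotientGroup.eq, mem_center_iff] at h'
    set e' : L := (l * x * l⁻¹)⁻¹ * ⟨k * x * k⁻¹, hkx⟩ with he'
    have hec : ((e' : L) : X) ∈ centralizer (L : Set X) := fun w hw =>
      congrArg Subtype.val (h' ⟨w, hw⟩)
    refine ⟨e', hec, ?_⟩
    have e1 : (e' : X) * x = x * e' := (hec x x.2).symm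
    have e2 : (e' : X) * l = l * e' := (hec l l.2).symm
    have e3 : k * (x : X) * k⁻¹ = (l : X) * x * (l : X)⁻¹ * (e' : X) := by
      rw [he']
      simp only [Subgroup.coe_mul, InvMemClass.coe_inv]
      group
    calc a * x * a⁻¹ = (l : X)⁻¹ * (k * x * k⁻¹) * l := by rw [ha]; group
      _ = x * ((l : X)⁻¹ * ((e' : X) * l)) := by rw [e3]; group
      _ = (e' : X) * x := by rw [e2, inv_mul_cancel_left, e1]
  have haL : L ≤ centralizer ({a} : Set X) := by
    conv_lhs => rw [← hLp]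
    refine commutator_le.mpr fun x hx y hy => mem_centralizer_singleton_iff.mpr ?_
    obtain ⟨e, he, hex⟩ := hmod ⟨x, hx⟩
    obtain ⟨f, hf, hfy⟩ := hmod ⟨y, hy⟩
    simp only at hex hfy
    have hey : Commute e (f * y) := by
      have : f * y ∈ L := by
        rw [← hfy]
        have h1 := mem_normalizer_iff.mp ((L.le_normalizer (inv_mem l.2))) (k * y * k⁻¹)
        have h2 := (mem_normalizer_iff.mp (hKL hk) y).mp hy
        have := h1.mp h2
        rw [ha]; convert this using 1; group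
      exact (he _ this).symm
    have hconj : a * ⁅x, y⁆ * a⁻¹ = ⁅x, y⁆ := by
      rw [commutatorElement_def, show a * (x * y * x⁻¹ * y⁻¹) * a⁻¹ =
        (a * x * a⁻¹) * (a * y * a⁻¹) * (a * x * a⁻¹)⁻¹ * (a * y * a⁻¹)⁻¹ by group, hex, hfy]
      calc e * x * (f * y) * (e * x)⁻¹ * (f * y)⁻¹
          = e * (x * f) * (y * x⁻¹) * (e⁻¹ * (f * y)⁻¹) := by group
        _ = e * (f * x) * (y * x⁻¹) * ((f * y)⁻¹ * e⁻¹) := by
          rw [← hf x hx, hey.inv_inv.eq]
        _ = e * (f * (x * y * x⁻¹ * y⁻¹)) * f⁻¹ * e⁻¹ := by group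
        _ = e * (x * y * x⁻¹ * y⁻¹) * e⁻¹ := by
          rw [← hf _ (mul_mem (mul_mem (mul_mem hx hy) (inv_mem hx)) (inv_mem hy))]; group
        _ = x * y * x⁻¹ * y⁻¹ := by
          rw [← he _ (mul_mem (mul_mem (mul_mem hx hy) (inv_mem hx)) (inv_mem hy)),
            mul_inv_cancel_right]
    exact (mul_inv_eq_iff_eq_mul.mp hconj).symm
  intro x hx
  exact mem_centralizer_singleton_iff.mp (haL hx)

/-- A perfect subgroup of `C(R) ∩ C(O_p(X))` which centralises `L ∩ C(R)` modulo `O_{p'}(Y)`,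
`L` normal, centralises the elements of `L ∩ layerFix` modulo `O_{p'}(Y)`. -/
theorem commutator_mem_coreIn (hR : IsPGroup p R)
    (hCY : centralizer (R : Set X) ≤ Y) (hYN : Y ≤ normalizer (R : Set X))
    (hO : coreIn p Y ≤ centralizer (R : Set X)) {K L : Subgroup X}
    (hKR : K ≤ centralizer (R : Set X)) (hKperf : ⁅K, K⁆ = K)
    (hKC : K ≤ centralizer (Cfsg.pCore p X : Set X)) (hLn : L.Normal)
    (hKM : ⁅K, L ⊓ centralizer (R : Set X)⁆ ≤ coreIn p Y) {d : X} (hd : d ∈ K) {z : X}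
    (hz : z ∈ layerFix p R) (hzL : z ∈ L) : d * z * d⁻¹ * z⁻¹ ∈ coreIn p Y := by
  have hK0 : K ≤ centralizer (R : Set X) ⊓ centralizer (Cfsg.pCore p X : Set X) := le_inf hKR hKC
  have hOn : ((coreIn p Y).subgroupOf Y).Normal := normal_subgroupOf_of_le_normalizer (le_normalizer_coreIn Y)
  let q : Y →* ↥Y ⧸ (coreIn p Y).subgroupOf Y := QuotientGroup.mk' _
  have hqc : ∀ a ∈ K, ∀ m ∈ L ⊓ centralizer (R : Set X), ∀ (haY : a ∈ Y) (hmY : m ∈ Y),
      Commute (q ⟨a, haY⟩) (q ⟨m, hmY⟩) := by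
    intro a ha m hm haY hmY
    apply commutatorElement_eq_one_iff_commute.mp
    rw [← map_commutatorElement]
    exact (QuotientGroup.eq_one_iff _).mpr (hKM (commutator_mem_commutator ha hm))
  have hM : ∀ a ∈ K, ∀ w ∈ layerFix p R, w ∈ L → w * a * w⁻¹ * a⁻¹ ∈ L ⊓ centralizer (R : Set X) :=
    fun a ha w hw hwL => ⟨by
        rw [show w * a * w⁻¹ * a⁻¹ = w * (a * w⁻¹ * a⁻¹) by group]
        exact mul_mem hwL (hLn.conj_mem _ (inv_mem hwL) a),
      (centralizer (R : Set X)).mul_mem (layerFix_conj_mem hw (hK0 ha)).1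
        ((centralizer (R : Set X)).inv_mem (hKR ha))⟩
  let S : Subgroup X :=
    { carrier := {a | a ∈ K ∧ z * a * z⁻¹ * a⁻¹ ∈ coreIn p Y}
      one_mem' := ⟨one_mem _, by simp⟩
      mul_mem' := by
        rintro a b ⟨ha, ha'⟩ ⟨hb, hb'⟩
        refine ⟨mul_mem ha hb, ?_⟩
        rw [show z * (a * b) * z⁻¹ * (a * b)⁻¹ =
          (z * a * z⁻¹ * a⁻¹) * (a * (z * b * z⁻¹ * b⁻¹) * a⁻¹) by group]
        exact mul_mem ha' (coreIn_conj_mem (hCY (hKR ha)) hb')
      inv_mem' := by
        rintro a ⟨ha, ha'⟩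
        refine ⟨inv_mem ha, ?_⟩
        rw [show z * a⁻¹ * z⁻¹ * a⁻¹⁻¹ = a⁻¹ * (z * a * z⁻¹ * a⁻¹)⁻¹ * a⁻¹⁻¹ by group]
        exact coreIn_conj_mem (hCY (hKR (inv_mem ha))) (inv_mem ha') }
  have hKS : K ≤ S := by
    conv_lhs => rw [← hKperf]
    refine commutator_le.mpr fun a ha b hb => ⟨?_, ?_⟩
    · rw [← hKperf]; exact commutator_mem_commutator ha hb
    set m := z * a * z⁻¹ * a⁻¹ with hm
    set n := z * b * z⁻¹ * b⁻¹ with hn
    have hmM := hM a ha z hz hzL
    have hnM := hM b hb z hz hzL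
    have haY := hCY (hKR ha)
    have hbY := hCY (hKR hb)
    have hmY := hCY hmM.2
    have hnY := hCY hnM.2
    -- the conjugate of `a` commutes with `n` modulo `O`
    have hn' : z⁻¹ * n * z ∈ L ⊓ centralizer (R : Set X) := by
      have := inv_mem (hM b hb z⁻¹ (inv_mem_layerFix hz) (inv_mem hzL))
      rw [hn]; convert this using 1; group
    have h1 := hKM (commutator_mem_commutator ha hn')
    have h2 := layerFix_conj_coreIn hR hCY hYN hO hz h1
    have h3 : ⁅m * a, n⁆ ∈ coreIn p Y := by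
      have e : z * ⁅a, z⁻¹ * n * z⁆ * z⁻¹ = ⁅m * a, n⁆ := by
        simp only [commutatorElement_def, hm]; group
      rwa [e] at h2
    have hman : Commute (q ⟨m, hmY⟩ * q ⟨a, haY⟩) (q ⟨n, hnY⟩) := by
      apply commutatorElement_eq_one_iff_commute.mp
      rw [← map_mul, ← map_commutatorElement]
      exact (QuotientGroup.eq_one_iff _).mpr h3
    have ca : Commute (q ⟨a, haY⟩) (q ⟨n, hnY⟩) := hqc a ha n hnM haY hnY
    have ca' : Commute (q ⟨a, haY⟩) (q ⟨m, hmY⟩) := hqc a ha m hmM haY hmY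
    have cb : Commute (q ⟨b, hbY⟩) (q ⟨n, hnY⟩) := hqc b hb n hnM hbY hnY
    have cb' : Commute (q ⟨b, hbY⟩) (q ⟨m, hmY⟩) := hqc b hb m hmM hbY hmY
    have cmn : Commute (q ⟨m, hmY⟩) (q ⟨n, hnY⟩) := by
      have := hman.mul_left ca.inv_left
      rwa [mul_inv_cancel_right] at this
    have key : q (⁅(⟨m, hmY⟩ : Y) * ⟨a, haY⟩, (⟨n, hnY⟩ : Y) * ⟨b, hbY⟩⁆ *
        (⁅(⟨a, haY⟩ : Y), ⟨b, hbY⟩⁆)⁻¹) = 1 := by
      rw [map_mul, map_inv, map_commutatorElement, map_commutatorElement, map_mul, map_mul,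
        mul_inv_eq_one, commutatorElement_def, commutatorElement_def]
      generalize q ⟨m, hmY⟩ = M, q ⟨n, hnY⟩ = N, q ⟨a, haY⟩ = A, q ⟨b, hbY⟩ = B at ca ca' cb cb' cmn
      calc M * A * (N * B) * (M * A)⁻¹ * (N * B)⁻¹
          = M * (A * N) * B * (A⁻¹ * M⁻¹) * B⁻¹ * N⁻¹ := by group
        _ = (M * N) * A * B * (M⁻¹ * A⁻¹) * B⁻¹ * N⁻¹ := by
          rw [ca.eq, ← ca'.inv_inv.eq]; group
        _ = (N * M) * A * (B * M⁻¹) * A⁻¹ * B⁻¹ * N⁻¹ := by rw [cmn.eq]; group
        _ = N * M * (A * M⁻¹) * B * A⁻¹ * B⁻¹ * N⁻¹ := by rw [cb'.inv_right.eq]; group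
        _ = N * (A * B * A⁻¹ * B⁻¹) * N⁻¹ := by rw [ca'.inv_right.eq]; group
        _ = A * B * A⁻¹ * B⁻¹ := by
          rw [← (((ca.mul_left cb).mul_left ca.inv_left).mul_left cb.inv_left).eq,
            mul_inv_cancel_right]
    have := (QuotientGroup.eq_one_iff _).mp key
    rw [mem_subgroupOf] at this
    simp only [commutatorElement_def, Subgroup.coe_mul, InvMemClass.coe_inv, hm, hn] at this
    simp only [commutatorElement_def]
    convert this using 1
    group
  have := inv_mem (hKS hd).2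
  convert this using 1; group

/-- A perfect subgroup of `C(R) ∩ C(O_p(X))` centralising `L(X) ∩ C(R)` modulo `O_{p'}(Y)` lies in
the layer, when the components have solvable outer automorphism groups. -/
theorem le_layer_of_commutator_le (hX : Cfsg.pPrimeCore p X = ⊥)
    (hS : ∀ L : Subgroup X, Cfsg.IsComponent L → Group.IsSolvable (Cfsg.Out (↥L ⧸ center ↥L)))
    (hR : IsPGroup p R)
    (hCY : centralizer (R : Set X) ≤ Y) (hYN : Y ≤ normalizer (R : Set X))
    (hO : coreIn p Y ≤ centralizer (R : Set X)) {K : Subgroup X}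
    (hKR : K ≤ centralizer (R : Set X)) (hKperf : ⁅K, K⁆ = K)
    (hKU : ⁅K, Cfsg.pCore p X ⊓ centralizer (R : Set X)⁆ ≤ coreIn p Y)
    (hKM : ⁅K, Cfsg.layer X ⊓ centralizer (R : Set X)⁆ ≤ coreIn p Y) :
    K ≤ Cfsg.layer X := by
  set U := Cfsg.pCore p X
  set L := Cfsg.layer X
  have hUn : U.Normal := CfsgLib.Solvable.pCore_normal (G := X) p
  have hgen := perfect_le_closure_coprime (p := p) hKperf
  -- `K` centralises `O_p(X)`
  have hKC : K ≤ centralizer (U : Set X) := by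
    refine hgen.trans ((closure_le _).mpr ?_)
    rintro x ⟨hx, hcop⟩
    refine CfsgLib.Coprime.le_centralizer_of_inf_centralizer_le (P := R) (Q := zpowers x) hR
      (by rwa [Nat.card_zpowers]) (CfsgLib.PLocal.isPGroup_pCore p X)
      (le_centralizer_iff.mp (zpowers_le.mpr (hKR hx))) le_normalizer_of_normal
      le_normalizer_of_normal ?_ (mem_zpowers x)
    intro u hu
    have h1 := hKU (commutator_mem_commutator hx hu)
    have h2 : ⁅x, u⁆ ∈ U := mul_mem (hUn.conj_mem u hu.1 x) (inv_mem hu.1)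
    obtain ⟨j, hj⟩ := CfsgLib.PLocal.isPGroup_pCore p X ⟨_, h2⟩
    have h3 := eq_one_of_mem_coreIn h1 (k := j) (congrArg Subtype.val hj)
    rintro _ ⟨i, rfl⟩
    exact ((show Commute x u from commutatorElement_eq_one_iff_commute.mp h3).zpow_left i).eq
  set C0 := centralizer (R : Set X) ⊓ centralizer (U : Set X)
  have hK0 : K ≤ C0 := le_inf hKR hKC
  have hT : ∀ d ∈ K, ∀ z ∈ layerFix p R, d * z * d⁻¹ * z⁻¹ ∈ coreIn p Y := fun d hd z hz =>
    commutator_mem_coreIn hR hCY hYN hO hKR hKperf hKC (inferInstance : L.Normal) hKM hd hz hz.1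
  have hnorm : ∀ J : Subgroup X, Cfsg.IsComponent J → K ≤ normalizer (J : Set X) := fun J hJ =>
    le_normalizer_component hX (Y := Y) hR hKR hgen hT hJ
  -- `K ≤ L(X) C(L(X))`
  have hstep : ∀ k ∈ K, ∀ S : Set (Subgroup X), (∀ J ∈ S, Cfsg.IsComponent J) →
      ∃ l ∈ sSup S, l⁻¹ * k ∈ centralizer ((sSup S : Subgroup X) : Set X) := by
    intro k hk S
    induction S, S.toFinite using Set.Finite.induction_on with
    | empty => intro _; exact ⟨1, one_mem _, by simp [mem_centralizer_iff]⟩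
    | @insert J S hJS _ ih =>
      intro hS'
      have hJ := hS' J (Set.mem_insert _ _)
      obtain ⟨l, hl, hlc⟩ := ih fun I hI => hS' I (Set.mem_insert_of_mem _ hI)
      obtain ⟨m, hm, hmc⟩ := exists_mul_inv_mem_centralizer hKperf (hnorm J hJ)
        (IsComponent.commutator_eq_self hJ) (hS J hJ) hk
      have hSJ : sSup S ≤ centralizer (J : Set X) :=
        CfsgLib.Components.sSup_le_centralizer_of_notMem
          (fun I hI => hS' I (Set.mem_insert_of_mem _ hI)) hJ hJS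
      have hlm : Commute m l := hSJ hl m hm
      rw [sSup_insert]
      refine ⟨m * l, mul_mem_sup hm hl, ?_⟩
      refine le_centralizer_iff.mp (sup_le (le_centralizer_iff.mp ?_) (le_centralizer_iff.mp ?_))
        (mem_zpowers ((m * l)⁻¹ * k))
      · rw [zpowers_le, show (m * l)⁻¹ * k = l⁻¹ * (m⁻¹ * k) by group]
        exact mul_mem (inv_mem (hSJ hl)) hmc
      · rw [zpowers_le, show (m * l)⁻¹ * k = m⁻¹ * (l⁻¹ * k) by rw [hlm.eq]; group]
        exact mul_mem (inv_mem (le_centralizer_iff.mp hSJ hm)) hlc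
  have hKLU : K ≤ U ⊔ L := by
    intro k hk
    obtain ⟨l, hl, hlc⟩ := hstep k hk {J | Cfsg.IsComponent J} fun _ h => h
    have hlU : l ∈ centralizer (U : Set X) := by
      have := CfsgLib.Components.layer_le_centralizer_fittingSubgroup (G := X)
      rw [fittingSubgroup_eq_pCore hX] at this
      exact this hl
    have hc : l⁻¹ * k ∈ centralizer (Cfsg.generalizedFittingSubgroup X : Set X) := by
      rw [Cfsg.generalizedFittingSubgroup, fittingSubgroup_eq_pCore hX]
      refine le_centralizer_iff.mp (sup_le (le_centralizer_iff.mp ?_) (le_centralizer_iff.mp ?_))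
        (mem_zpowers (l⁻¹ * k))
      · exact zpowers_le.mpr hlc
      · exact zpowers_le.mpr (mul_mem (inv_mem hlU) (hKC hk))
    have hu := CfsgLib.Components.centralizer_generalizedFitting_le hc
    rw [fittingSubgroup_eq_pCore hX] at hu
    rw [show k = l * (l⁻¹ * k) by group, sup_comm]
    exact mul_mem_sup hl hu
  have hbot : K.map (QuotientGroup.mk' L) = ⊥ := by
    refine eq_bot_of_perfect (by rw [← map_commutator, hKperf]) ?_
    have hle : K.map (QuotientGroup.mk' L) ≤ U.map (QuotientGroup.mk' L) := by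
      refine (map_mono hKLU).trans ?_
      rw [Subgroup.map_sup, QuotientGroup.map_mk'_self, sup_bot_eq]
    have := ((CfsgLib.PLocal.isPGroup_pCore p X).map (QuotientGroup.mk' L)).to_le hle |>.isNilpotent
    infer_instance
  rwa [Subgroup.map_eq_bot_iff, QuotientGroup.ker_mk'] at hbot

end CfsgLib.Balance
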