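import Cfsg.Agent.Balance.Core
import Cfsg.Agent.PLocal.Constraint
import Cfsg.Agent.Signalizer.ExtendedTwoLayer
import Cfsg.Prelude.Def_EvenTechniques

/-!
# Balance for `p`-local subgroups

`X` finite, `R` a `p`-subgroup, `C(R) ≤ Y ≤ N(R)`.

* `coreIn_le_hatPLayer`: `O_{p'}(Y)` normalises every `p`-component of `X` and centralises
  `O_p(X/O_{p'}(X))` modulo `O_{p'}(X)`.
* `pLayer_map_subtype_le`: `L_{p'}`-balance under the Schreier property for the components of
  `X/O_{p'}(X)`.
-/

set_option autoImplicit false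

namespace CfsgLib.Balance

open Subgroup
open scoped commutatorElement
open CfsgLib.Components (IsPComponent.eq_pComponentOver IsPComponent.pElems_eq_self
  IsPComponent.commutator_eq_self IsComponent.commutator_eq_bot_of_isSolvable
  IsComponent.le_or_commutator_eq_bot_of_normal)

variable {X : Type*} [Group X] [Finite X] {p : ℕ} [Fact p.Prime] {R Y : Subgroup X}

local notation "π" => QuotientGroup.mk' (Cfsg.pPrimeCore p X)

theorem coreIn_le_centralizer_of_le (hR : IsPGroup p R) (hRY : R ≤ Y)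
    (hYN : Y ≤ normalizer (R : Set X)) : coreIn p Y ≤ centralizer (R : Set X) := by
  intro o ho r hr
  have h1 : r * o * r⁻¹ * o⁻¹ ∈ coreIn p Y := mul_mem (coreIn_conj_mem (hRY hr) ho) (inv_mem ho)
  have h2 : r * o * r⁻¹ * o⁻¹ ∈ R := by
    rw [show r * o * r⁻¹ * o⁻¹ = r * (o * r⁻¹ * o⁻¹) by group]
    exact mul_mem hr ((mem_normalizer_iff.mp (hYN (coreIn_le Y ho)) r⁻¹).mp (inv_mem hr))
  obtain ⟨k, hk⟩ := hR ⟨_, h2⟩
  have h3 := eq_one_of_mem_coreIn h1 (k := k) (congrArg Subtype.val hk)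
  exact mul_inv_eq_iff_eq_mul.mp (mul_inv_eq_one.mp h3)

theorem map_coreIn_le (Y : Subgroup X) : (coreIn p Y).map π ≤ coreIn p (Y.map π) := by
  rintro _ ⟨_, ⟨y, hy, rfl⟩, rfl⟩
  exact ⟨(π).subgroupMap Y y, CfsgLib.PLocal.map_pPrimeCore_le_of_surjective
    ((π).subgroupMap_surjective Y) (mem_map_of_mem _ hy), rfl⟩

theorem centralizer_map_le (hR : IsPGroup p R) (hCY : centralizer (R : Set X) ≤ Y) :
    centralizer ((R.map π : Subgroup (X ⧸ Cfsg.pPrimeCore p X)) : Set (X ⧸ Cfsg.pPrimeCore p X)) ≤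
      Y.map π := by
  rw [CfsgLib.PLocal.centralizer_map_mk'_eq _ (CfsgLib.PLocal.coprime_card_pPrimeCore p X) hR]
  exact map_mono hCY

theorem map_le_normalizer_map (hYN : Y ≤ normalizer (R : Set X)) :
    Y.map π ≤
      normalizer ((R.map π : Subgroup (X ⧸ Cfsg.pPrimeCore p X)) : Set (X ⧸ Cfsg.pPrimeCore p X)) :=
  (map_mono hYN).trans (le_normalizer_map _)

theorem coreIn_map_le_centralizer (hR : IsPGroup p R) (hYN : Y ≤ normalizer (R : Set X))
    (hY : R ≤ Y ∨ Y = centralizer (R : Set X)) :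
    coreIn p (Y.map π) ≤
      centralizer ((R.map π : Subgroup (X ⧸ Cfsg.pPrimeCore p X)) : Set (X ⧸ Cfsg.pPrimeCore p X)) := by
  rcases hY with h | rfl
  · exact coreIn_le_centralizer_of_le (hR.map _) (map_mono h) (map_le_normalizer_map hYN)
  · exact (coreIn_le _).trans
      (CfsgLib.PLocal.centralizer_map_mk'_eq _ (CfsgLib.PLocal.coprime_card_pPrimeCore p X) hR).ge

/-- `O_{p'}(Y)` lies in `L̂_{p'}(X)`. -/
theorem coreIn_le_hatPLayer (hR : IsPGroup p R) (hCY : centralizer (R : Set X) ≤ Y)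
    (hYN : Y ≤ normalizer (R : Set X)) (hY : R ≤ Y ∨ Y = centralizer (R : Set X)) :
    coreIn p Y ≤ Cfsg.hatPLayer p X := by
  have hbar := CfsgLib.PLocal.pPrimeCore_quotient_pPrimeCore_eq_bot p X
  have hO := coreIn_map_le_centralizer hR hYN hY
  refine le_inf (le_iInf fun K => ?_) ?_
  · refine le_trans ?_ ((CfsgLib.Components.normalizer_le_normalizer_pElems (p := p) _).trans
      (le_of_eq (congrArg (fun H : Subgroup X => normalizer (H : Set X))
        (IsPComponent.eq_pComponentOver K.2).symm)))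
    refine le_trans ?_ (le_normalizer_comap π)
    rw [← map_le_iff_le_comap]
    exact (map_coreIn_le Y).trans (coreIn_le_normalizer_component hbar (hR.map _)
      (centralizer_map_le hR hCY) (map_le_normalizer_map hYN) hO K.2.2.1)
  · rw [← map_le_iff_le_comap]
    exact (map_coreIn_le Y).trans
      (coreIn_le_centralizer_pCore (hR.map _) (centralizer_map_le hR hCY) hO)

theorem map_subtype_le_normalizer_centralizer (hYN : Y ≤ normalizer (R : Set X)) :
    Y ≤ normalizer (centralizer (R : Set X) : Set X) := by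
  intro y hy
  have key : ∀ y ∈ Y, ∀ x ∈ centralizer (R : Set X), y * x * y⁻¹ ∈ centralizer (R : Set X) := by
    intro y hy x hx r hr
    have h := hx _ ((mem_normalizer_iff''.mp (hYN hy) r).mp hr)
    calc r * (y * x * y⁻¹) = y * (y⁻¹ * r * y * x) * y⁻¹ := by group
      _ = y * (x * (y⁻¹ * r * y)) * y⁻¹ := by rw [h]
      _ = y * x * y⁻¹ * r := by group
  rw [mem_normalizer_iff]
  refine fun x => ⟨key y hy x, fun h => ?_⟩
  simpa [mul_assoc] using key _ (inv_mem hy) _ h

/-- A `p`-component commutes, modulo `O_{p'}`, with a normal subgroup with solvable image. -/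
theorem commutator_le_core_of_isSolvable {G : Type*} [Group G] [Finite G] {K N : Subgroup G}
    [N.Normal] (hK : Cfsg.IsPComponent p K)
    (hN : Group.IsSolvable (N.map (QuotientGroup.mk' (Cfsg.pPrimeCore p G)))) :
    ⁅K, N⁆ ≤ Cfsg.pPrimeCore p G := by
  have := Subgroup.Normal.map (inferInstance : N.Normal) (QuotientGroup.mk' (Cfsg.pPrimeCore p G))
    (QuotientGroup.mk'_surjective _)
  rw [← QuotientGroup.ker_mk' (Cfsg.pPrimeCore p G), ← Subgroup.map_eq_bot_iff, map_commutator]
  exact IsComponent.commutator_eq_bot_of_isSolvable hK.2.1 hN le_normalizer_of_normal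

theorem isPComponent_le_centralizer (hR : IsPGroup p R) (hYN : Y ≤ normalizer (R : Set X))
    (hY : R ≤ Y ∨ Y = centralizer (R : Set X)) {K : Subgroup Y} (hK : Cfsg.IsPComponent p K) :
    K.map Y.subtype ≤ centralizer (R : Set X) := by
  rcases hY with hRY | rfl
  · have : (R.subgroupOf Y).Normal := normal_subgroupOf_of_le_normalizer hYN
    have hsol : Group.IsSolvable ((R.subgroupOf Y).map (QuotientGroup.mk' (Cfsg.pPrimeCore p Y))) := by
      have : Group.IsNilpotent ((R.subgroupOf Y).map (QuotientGroup.mk' (Cfsg.pPrimeCore p Y))) :=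
        ((hR.comap_subtype (K := Y)).map (QuotientGroup.mk' (Cfsg.pPrimeCore p Y))).isNilpotent
      infer_instance
    have h1 := commutator_le_core_of_isSolvable hK hsol
    rintro _ ⟨k, hk, rfl⟩ r hr
    have h2 : ⁅k, (⟨r, hRY hr⟩ : Y)⁆ ∈ Cfsg.pPrimeCore p Y :=
      h1 (commutator_mem_commutator hk (mem_subgroupOf.mpr hr))
    have h3 : ⁅k, (⟨r, hRY hr⟩ : Y)⁆ ∈ R.subgroupOf Y := by
      rw [commutatorElement_def]
      exact mul_mem (Normal.conj_mem inferInstance _ (mem_subgroupOf.mpr hr) k)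
        (inv_mem (mem_subgroupOf.mpr hr))
    have h4 := CfsgLib.PLocal.disjoint_of_isPGroup_of_coprime (hR.comap_subtype (K := Y))
      (CfsgLib.PLocal.coprime_card_pPrimeCore p Y)
    have h5 : ⁅k, (⟨r, hRY hr⟩ : Y)⁆ = 1 := mem_bot.mp (h4 ▸ ⟨h3, h2⟩)
    exact (congrArg Subtype.val (commutatorElement_eq_one_iff_commute.mp h5).eq).symm
  · rintro _ ⟨k, -, rfl⟩; exact k.2

/-- **`L_{p'}`-balance.** -/
theorem map_subtype_pComponent_le_pLayer
    (hS : ∀ L : Subgroup (X ⧸ Cfsg.pPrimeCore p X), Cfsg.IsComponent L →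
      Group.IsSolvable (Cfsg.Out (↥L ⧸ center ↥L)))
    (hR : IsPGroup p R) (hCY : centralizer (R : Set X) ≤ Y) (hYN : Y ≤ normalizer (R : Set X))
    (hY : R ≤ Y ∨ Y = centralizer (R : Set X)) {K : Subgroup Y} (hK : Cfsg.IsPComponent p K) :
    K.map Y.subtype ≤ Cfsg.pLayer p X := by
  set N₀ := Cfsg.pPrimeCore p X with hN₀
  set f := QuotientGroup.mk' N₀ with hf
  set O := Cfsg.pPrimeCore p Y with hOdef
  have hKR := isPComponent_le_centralizer hR hYN hY hK
  have hCn : ((centralizer (R : Set X)).subgroupOf Y).Normal :=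
    normal_subgroupOf_of_le_normalizer (map_subtype_le_normalizer_centralizer hYN)
  have hN0Y : N₀.subgroupOf Y ≤ O := CfsgLib.PLocal.pPrimeCore_subgroupOf_le Y
  have hcent := CfsgLib.PLocal.centralizer_map_mk'_eq N₀ (CfsgLib.PLocal.coprime_card_pPrimeCore p X) hR
  -- lifting a commutator statement
  have lift : ∀ (W : Subgroup (X ⧸ N₀)),
      ⁅K, (W.comap f).subgroupOf Y ⊓ (centralizer (R : Set X)).subgroupOf Y⁆ ≤ O →
      ⁅(K.map Y.subtype).map f, W ⊓ centralizer ((R.map f : Subgroup (X ⧸ N₀)) : Set (X ⧸ N₀))⁆ ≤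
        coreIn p (Y.map f) := by
    intro W h
    refine commutator_le.mpr ?_
    rintro _ ⟨_, ⟨k, hk, rfl⟩, rfl⟩ w ⟨hwW, hwC⟩
    rw [hcent] at hwC
    obtain ⟨x, hx, rfl⟩ := hwC
    rw [← map_commutatorElement]
    refine map_coreIn_le Y ⟨⁅(k : X), x⁆, ⟨⁅k, (⟨x, hCY hx⟩ : Y)⁆, ?_, rfl⟩, rfl⟩
    exact h (commutator_mem_commutator hk ⟨mem_subgroupOf.mpr hwW, mem_subgroupOf.mpr hx⟩)
  set U := Cfsg.pCore p (X ⧸ N₀) with hUdef
  set L := Cfsg.layer (X ⧸ N₀) with hLdef
  have hKU : ⁅K, (U.comap f).subgroupOf Y ⊓ (centralizer (R : Set X)).subgroupOf Y⁆ ≤ O := by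
    have : U.Normal := CfsgLib.Solvable.pCore_normal (G := X ⧸ N₀) p
    refine commutator_le_core_of_isSolvable hK ?_
    have hp : IsPGroup p (((U.comap f).subgroupOf Y ⊓ (centralizer (R : Set X)).subgroupOf Y).map
        (QuotientGroup.mk' O)) := by
      rintro ⟨_, y, hy, rfl⟩
      obtain ⟨k, hk⟩ := CfsgLib.PLocal.isPGroup_pCore p (X ⧸ N₀) ⟨f y, hy.1⟩
      refine ⟨k, Subtype.ext ?_⟩
      simp only [SubmonoidClass.coe_pow, OneMemClass.coe_one]
      rw [← map_pow]
      refine (QuotientGroup.eq_one_iff _).mpr (hN0Y (mem_subgroupOf.mpr ?_))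
      refine (QuotientGroup.eq_one_iff _).mp ?_
      have h2 : f (y : X) ^ p ^ k = 1 := congrArg Subtype.val hk
      exact h2
    have := hp.isNilpotent
    infer_instance
  have hgoal : K.map Y.subtype ≤ L.comap f := by
    have hmn := Subgroup.Normal.map (inferInstance :
        ((L.comap f).subgroupOf Y ⊓ (centralizer (R : Set X)).subgroupOf Y).Normal)
        (QuotientGroup.mk' O) (QuotientGroup.mk'_surjective _)
    rcases IsComponent.le_or_commutator_eq_bot_of_normal hK.2.1
      (((L.comap f).subgroupOf Y ⊓ (centralizer (R : Set X)).subgroupOf Y).map (QuotientGroup.mk' O))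
      with h | h
    · rw [map_le_iff_le_comap, comap_map_eq, QuotientGroup.ker_mk'] at h
      have := CfsgLib.Components.pElems_le_of_isSubnormal (Normal.isSubnormal (inferInstance :
          ((L.comap f).subgroupOf Y ⊓ (centralizer (R : Set X)).subgroupOf Y).Normal))
        (CfsgLib.PLocal.coprime_card_pPrimeCore p Y) h
      rw [IsPComponent.pElems_eq_self hK] at this
      exact map_le_iff_le_comap.mpr (this.trans inf_le_left)
    · rw [← map_commutator, Subgroup.map_eq_bot_iff, QuotientGroup.ker_mk'] at h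
      rw [← map_le_iff_le_comap]
      refine le_layer_of_commutator_le (R := R.map f) (Y := Y.map f)
        (CfsgLib.PLocal.pPrimeCore_quotient_pPrimeCore_eq_bot p X) hS (hR.map _)
        (centralizer_map_le hR hCY) (map_le_normalizer_map hYN)
        (coreIn_map_le_centralizer hR hYN hY) ?_ ?_ (lift U hKU) (lift L h)
      · rw [hcent]; exact map_mono hKR
      · rw [← map_commutator, ← map_commutator, IsPComponent.commutator_eq_self hK]
  rw [hLdef, ← CfsgLib.Components.map_pLayer_eq_layer, comap_map_eq, QuotientGroup.ker_mk'] at hgoal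
  rw [← IsPComponent.pElems_eq_self hK]
  refine (CfsgLib.Components.map_pElems_le Y.subtype K).trans ((closure_le _).mpr ?_)
  rintro x ⟨hx, k, hk⟩
  have hn : (Cfsg.pLayer p X).Normal := CfsgLib.Signalizer.pLayerNormal p X
  exact CfsgLib.Components.mem_of_isSubnormal_of_mem_sup hn.isSubnormal
    (CfsgLib.PLocal.coprime_card_pPrimeCore p X) hk (hgoal hx)

/-- The `p`-layer of `Y` lies in the `p`-layer of `X`. -/
theorem pLayer_map_subtype_le
    (hS : ∀ L : Subgroup (X ⧸ Cfsg.pPrimeCore p X), Cfsg.IsComponent L →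
      Group.IsSolvable (Cfsg.Out (↥L ⧸ center ↥L)))
    (hR : IsPGroup p R) (hCY : centralizer (R : Set X) ≤ Y) (hYN : Y ≤ normalizer (R : Set X))
    (hY : R ≤ Y ∨ Y = centralizer (R : Set X)) :
    (Cfsg.pLayer p Y).map Y.subtype ≤ Cfsg.pLayer p X := by
  rw [map_le_iff_le_comap]
  exact sSup_le fun K hK => map_le_iff_le_comap.mp
    (map_subtype_pComponent_le_pLayer hS hR hCY hYN hY hK)

end CfsgLib.Balance
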