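import Cfsg.Agent.Balance.Local

/-!
# Further facts on `p`-components

* `isPComponent_iff_pElems`, `isPComponent_subgroupOf_iff` (restriction to a subnormal subgroup).
* `isPComponent_range`: a subnormal image of a group with quasisimple `K/O_{p'}(K)`.
* `quasiPart`: the join of the quasisimple `p`-components.
-/

set_option autoImplicit false

namespace CfsgLib.Balance

open Subgroup
open scoped commutatorElement
open CfsgLib.Components (pElems pComponentOver IsPComponent.eq_pComponentOver
  IsPComponent.pElems_eq_self IsComponent.ne_bot)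

variable {G : Type*} [Group G] [Finite G] {p : ℕ} [Fact p.Prime]

theorem pElems_mono {K L : Subgroup G} (h : K ≤ L) : pElems p K ≤ pElems p L :=
  closure_mono fun _ hx => ⟨h hx.1, hx.2⟩

theorem isPComponent_iff_pElems {K : Subgroup G} :
    Cfsg.IsPComponent p K ↔ K.IsSubnormal ∧
      Cfsg.IsComponent (K.map (QuotientGroup.mk' (Cfsg.pPrimeCore p G))) ∧ pElems p K = K := by
  refine ⟨fun h => ⟨h.1, h.2.1, IsPComponent.pElems_eq_self h⟩, fun ⟨h1, h2, h3⟩ => ?_⟩
  have : K = pComponentOver p (K.map (QuotientGroup.mk' (Cfsg.pPrimeCore p G))) := by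
    refine le_antisymm ?_ (CfsgLib.Components.pComponentOver_le h1 le_rfl)
    conv_lhs => rw [← h3]
    exact pElems_mono (le_comap_map _ K)
  rw [this]
  exact CfsgLib.Components.isPComponent_pComponentOver h2

theorem isPComponent_subgroupOf_iff {M K : Subgroup G} (hM : M.IsSubnormal) (hKM : K ≤ M) :
    Cfsg.IsPComponent p (K.subgroupOf M) ↔ Cfsg.IsPComponent p K := by
  set f := QuotientGroup.mk' (Cfsg.pPrimeCore p G) with hf
  have hker : Cfsg.pPrimeCore p M = (f.subgroupMap M).ker := by
    ext x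
    rw [MonoidHom.mem_ker, ← Subtype.coe_inj]
    change _ ↔ f (x : G) = 1
    rw [hf, QuotientGroup.mk'_apply, QuotientGroup.eq_one_iff,
      ← Subgroup.mem_map_iff_mem M.subtype_injective, CfsgLib.Components.map_subtype_pPrimeCore_eq hM]
    exact ⟨fun h => h.2, fun h => ⟨x.2, h⟩⟩
  let e : M ⧸ Cfsg.pPrimeCore p M ≃* ↥(M.map f) := (QuotientGroup.quotientMulEquivOfEq hker).trans
    (QuotientGroup.quotientKerEquivOfSurjective _ (f.subgroupMap_surjective M))
  have himage : ((K.subgroupOf M).map (QuotientGroup.mk' (Cfsg.pPrimeCore p M))).map e.toMonoidHom =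
      (K.map f).subgroupOf (M.map f) := by
    ext x
    constructor
    · rintro ⟨_, ⟨m, hm, rfl⟩, rfl⟩
      exact ⟨m, hm, rfl⟩
    · rintro ⟨k, hk, hkx⟩
      exact ⟨_, ⟨⟨k, hKM hk⟩, hk, rfl⟩, Subtype.ext hkx⟩
  have hcomp : Cfsg.IsComponent ((K.subgroupOf M).map (QuotientGroup.mk' (Cfsg.pPrimeCore p M))) ↔
      Cfsg.IsComponent (K.map f) := by
    rw [← CfsgLib.Components.isComponent_subgroupOf hM.quotient (map_mono hKM), ← himage]
    refine ⟨fun h => CfsgLib.Components.IsComponent.map_equiv h e, fun h => ?_⟩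
    have := CfsgLib.Components.IsComponent.map_equiv h e.symm
    rw [map_map] at this
    simpa using this
  rw [isPComponent_iff_pElems, isPComponent_iff_pElems, hcomp]
  have hpe : (pElems p (K.subgroupOf M)).map M.subtype = pElems p K := by
    rw [CfsgLib.Components.pElems_map_eq, map_subgroupOf_eq_of_le hKM]
  refine and_congr ⟨fun h => ?_, fun h => h.subgroupOf⟩ (and_congr_right fun _ => ?_)
  · have := h.trans' hM
    rwa [map_subgroupOf_eq_of_le hKM] at this
  · rw [← hpe]
    exact ⟨fun h => by rw [h, map_subgroupOf_eq_of_le hKM],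
      fun h => map_injective M.subtype_injective (h.trans (map_subgroupOf_eq_of_le hKM).symm)⟩

theorem isQuasisimple_range {A : Type*} [Group A] {H : Type*} [Group H] (φ : A →* H)
    (hA : Cfsg.IsQuasisimple A) (hne : φ.range ≠ ⊥) : Cfsg.IsQuasisimple φ.range := by
  have hs := φ.rangeRestrict_surjective
  have hperf : ⁅(⊤ : Subgroup φ.range), (⊤ : Subgroup φ.range)⁆ = ⊤ := by
    rw [← map_top_of_surjective _ hs, ← map_commutator, CfsgLib.Components.IsQuasisimple.perfect hA]
  have : Nontrivial φ.range := (nontrivial_iff_ne_bot _).mpr hne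
  refine CfsgLib.Components.isQuasisimple_of_normal_le_center hperf fun N hN hNne => ?_
  rcases CfsgLib.Components.IsQuasisimple.normal_eq_top_or_le_center hA (N.comap φ.rangeRestrict)
    with h | h
  · refine absurd ?_ hNne
    rw [← map_comap_eq_self_of_surjective hs N, h, map_top_of_surjective _ hs]
  · intro x hx
    obtain ⟨y, rfl⟩ := hs x
    refine mem_center_iff.mpr fun z => ?_
    obtain ⟨z, rfl⟩ := hs z
    rw [← map_mul, ← map_mul, mem_center_iff.mp (h hx) z]

/-- A subnormal image of a group generated by `p`-elements with quasisimple quotient modulo the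
`p'`-core is trivial or a `p`-component. -/
theorem isPComponent_range {K : Type*} [Group K] [Finite K] (φ : K →* G)
    (hq : Cfsg.IsQuasisimple (K ⧸ Cfsg.pPrimeCore p K)) (hgen : pElems p (⊤ : Subgroup K) = ⊤)
    (hsn : φ.range.IsSubnormal) : φ.range = ⊥ ∨ Cfsg.IsPComponent p φ.range := by
  set f := QuotientGroup.mk' (Cfsg.pPrimeCore p G) with hf
  have hpe : pElems p φ.range = φ.range := by
    rw [MonoidHom.range_eq_map, ← CfsgLib.Components.pElems_map_eq, hgen]
  by_cases hne : φ.range.map f = ⊥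
  · left
    rw [Subgroup.map_eq_bot_iff, hf, QuotientGroup.ker_mk'] at hne
    rw [← hpe, pElems, closure_eq_bot_iff]
    rintro x ⟨hx, k, hk⟩
    exact orderOf_eq_one_iff.mp (Nat.eq_one_of_dvd_coprimes
      ((CfsgLib.PLocal.coprime_card_pPrimeCore p G).pow_right k)
      (Subgroup.orderOf_dvd_natCard _ (hne hx)) (orderOf_dvd_of_pow_eq_one hk))
  · right
    refine isPComponent_iff_pElems.mpr ⟨hsn, ⟨hsn.quotient, ?_⟩, hpe⟩
    have hle : Cfsg.pPrimeCore p K ≤ (f.comp φ).ker := by
      have hR : ((Cfsg.pPrimeCore p K).map φ).IsSubnormal := by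
        refine IsSubnormal.step _ _ (map_le_range φ _) hsn (normal_subgroupOf_of_le_normalizer ?_)
        rw [MonoidHom.range_eq_map]
        refine (map_mono ?_).trans (le_normalizer_map φ)
        rw [normalizer_eq_top]
      intro x hx
      exact (QuotientGroup.eq_one_iff _).mpr (CfsgLib.PLocal.le_pPrimeCore_of_isSubnormal hR
        ((CfsgLib.PLocal.coprime_card_pPrimeCore p K).coprime_dvd_left (card_map_dvd _ φ))
        (mem_map_of_mem φ hx))
    have e : (QuotientGroup.lift (Cfsg.pPrimeCore p K) (f.comp φ) hle).range = φ.range.map f := by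
      ext y
      constructor
      · rintro ⟨x, rfl⟩
        obtain ⟨x, rfl⟩ := QuotientGroup.mk'_surjective _ x
        exact ⟨φ x, ⟨x, rfl⟩, rfl⟩
      · rintro ⟨_, ⟨x, rfl⟩, rfl⟩
        exact ⟨QuotientGroup.mk x, rfl⟩
    rw [← e]
    exact isQuasisimple_range _ hq (e ▸ hne)

/-- In a quasisimple image, the image of the `p'`-core is central. -/
theorem map_commutator_pPrimeCore_eq_one {K : Type*} [Group K] [Finite K] (φ : K →* G)
    (hgen : pElems p (⊤ : Subgroup K) = ⊤)
    (hq : φ.range = ⊥ ∨ Cfsg.IsQuasisimple φ.range) {a : K} (ha : a ∈ Cfsg.pPrimeCore p K) (b : K) :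
    φ ⁅b, a⁆ = 1 := by
  rcases hq with h | h
  · exact mem_bot.mp (h ▸ ⟨_, rfl⟩)
  set N := (Cfsg.pPrimeCore p K).map φ.rangeRestrict
  have hNn : N.Normal := Normal.map inferInstance _ φ.rangeRestrict_surjective
  rcases CfsgLib.Components.IsQuasisimple.normal_eq_top_or_le_center h N with hN | hN
  · exfalso
    have h1 : (Nat.card φ.range).Coprime p := by
      rw [← Subgroup.card_top (G := φ.range), ← hN]
      exact (CfsgLib.PLocal.coprime_card_pPrimeCore p K).coprime_dvd_left (card_map_dvd _ _)
    have hbot : φ.range = ⊥ := by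
      rw [MonoidHom.range_eq_map, ← hgen, CfsgLib.Components.pElems_map_eq, pElems, closure_eq_bot_iff,
        ← MonoidHom.range_eq_map]
      rintro x ⟨hx, k, hk⟩
      exact orderOf_eq_one_iff.mp (Nat.eq_one_of_dvd_coprimes (h1.pow_right k)
        (Subgroup.orderOf_dvd_natCard _ hx) (orderOf_dvd_of_pow_eq_one hk))
    exact CfsgLib.Components.IsQuasisimple.center_ne_top h (by
      rw [eq_top_iff]
      intro x _
      refine mem_center_iff.mpr fun y => ?_
      have h2 : ∀ z : φ.range, z = 1 := fun z => Subtype.ext (mem_bot.mp (hbot ▸ z.2))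
      rw [h2 x, h2 y])
  · rw [map_commutatorElement, commutatorElement_eq_one_iff_commute]
    exact congrArg Subtype.val (mem_center_iff.mp (hN (mem_map_of_mem _ ha)) (φ.rangeRestrict b))

/-- The join of the quasisimple `p`-components. -/
def quasiPart (p : ℕ) (G : Type*) [Group G] : Subgroup G :=
  sSup {K : Subgroup G | Cfsg.IsPComponent p K ∧ Cfsg.IsQuasisimple K}

omit [Finite G] [Fact p.Prime] in
theorem sSup_normal_of_conj_mem {S : Set (Subgroup G)}
    (h : ∀ g : G, ∀ K ∈ S, K.map (MulAut.conj g).toMonoidHom ∈ S) : (sSup S).Normal := by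
  refine ⟨fun n hn g => ?_⟩
  have hle : (sSup S).map (MulAut.conj g).toMonoidHom ≤ sSup S :=
    map_le_iff_le_comap.mpr (sSup_le fun K hK => map_le_iff_le_comap.mp (le_sSup (h g K hK)))
  exact hle ⟨n, hn, rfl⟩

omit [Finite G] [Fact p.Prime] in
theorem quasiPart_normal : (quasiPart p G).Normal :=
  sSup_normal_of_conj_mem fun g K hK => ⟨CfsgLib.Signalizer.isPComponent_map_equiv _ hK.1,
    CfsgLib.Components.isQuasisimple_congr (K.equivMapOfInjective _ (MulAut.conj g).injective) hK.2⟩

omit [Finite G] [Fact p.Prime] in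
theorem nonQuasisimplePLayer_normal : (Cfsg.nonQuasisimplePLayer p G).Normal := by
  rw [Cfsg.nonQuasisimplePLayer, ← sSup_range]
  refine sSup_normal_of_conj_mem ?_
  rintro g _ ⟨K, rfl⟩
  exact ⟨⟨_, CfsgLib.Signalizer.isPComponent_map_equiv _ K.2.1, fun hq => K.2.2
    (CfsgLib.Components.isQuasisimple_congr
      ((K : Subgroup G).equivMapOfInjective _ (MulAut.conj g).injective).symm hq)⟩, rfl⟩

omit [Finite G] [Fact p.Prime] in
theorem quasiPart_le_layer : quasiPart p G ≤ Cfsg.layer G :=
  sSup_le fun K hK => CfsgLib.Components.IsComponent.le_layer (show Cfsg.IsComponent K from ⟨hK.1.1, hK.2⟩)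

omit [Finite G] [Fact p.Prime] in
theorem pLayer_le_quasiPart_sup :
    Cfsg.pLayer p G ≤ quasiPart p G ⊔ Cfsg.nonQuasisimplePLayer p G := by
  refine sSup_le fun K hK => ?_
  by_cases hq : Cfsg.IsQuasisimple K
  · exact le_trans (b := quasiPart p G)
      (le_sSup (show K ∈ {K : Subgroup G | Cfsg.IsPComponent p K ∧ Cfsg.IsQuasisimple K} from ⟨hK, hq⟩)) le_sup_left
  · exact le_trans (le_iSup (fun K : {K : Subgroup G // Cfsg.IsPComponent p K ∧ ¬ Cfsg.IsQuasisimple ↥K} =>
      (K : Subgroup G)) ⟨K, hK, hq⟩) le_sup_right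

theorem quasiPart_le_centralizer_nonQuasisimplePLayer :
    quasiPart p G ≤ centralizer (Cfsg.nonQuasisimplePLayer p G : Set G) := by
  refine sSup_le fun K hK => ?_
  rw [le_centralizer_iff]
  refine iSup_le fun L => ?_
  rw [← le_centralizer_iff, ← commutator_eq_bot_iff_le_centralizer]
  exact CfsgLib.Components.IsPComponent.commutator_eq_bot_of_isQuasisimple hK.1 L.2.1
    (fun h => L.2.2 (h ▸ hK.2)) hK.2

theorem quasiPart_inf_pPrimeCore_le_centralizer :
    quasiPart p G ⊓ Cfsg.pPrimeCore p G ≤ centralizer (quasiPart p G : Set G) := by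
  rw [le_centralizer_iff]
  refine sSup_le fun K hK => ?_
  rw [← commutator_eq_bot_iff_le_centralizer]
  have hc : Cfsg.IsComponent K := ⟨hK.1.1, hK.2⟩
  have := quasiPart_normal (G := G) (p := p)
  refine ((CfsgLib.Components.IsComponent.le_or_commutator_eq_bot_of_normal hc
    (quasiPart p G ⊓ Cfsg.pPrimeCore p G)).resolve_left fun h => ?_)
  exact CfsgLib.Components.IsPComponent.not_le_pPrimeCore hK.1 (h.trans inf_le_right)

theorem commutator_quasiPart_self : ⁅quasiPart p G, quasiPart p G⁆ = quasiPart p G := by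
  refine le_antisymm ((commutator_le_sup _ _).trans (sup_idem _).le) (sSup_le fun K hK => ?_)
  rw [← CfsgLib.Components.IsPComponent.commutator_eq_self hK.1]
  exact commutator_mono (le_sSup hK) (le_sSup hK)

end CfsgLib.Balance
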